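import Groth.Agent.Sga4B.KummerH1
import Groth.Agent.CurvesA.H1GmPicSurj

/-!
# `H¹(X, μ_n) ≅ Pic(X)[n]` when the global units of `X` are `n`-divisible
-/

set_option autoImplicit false
universe u

open CategoryTheory CategoryTheory.Limits AlgebraicGeometry Opposite CategoryTheory.Abelian

namespace K858.KummerPic

open Groth.Agent.Sga4B.KummerH1

variable (X : Scheme.{u}) (n : ℕ)

/-- the map `H¹(X, μ_n) → H¹(X, G_m)` -/
noncomputable def toGm : EtCoh.H X (EtCoh.mu X n) 1 →+ EtCoh.H X (EtCoh.Gm X) 1 :=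
  (Ext.mk₀ (EtCoh.muι X n)).postcomp _ (add_zero 1)

theorem toGm_apply (x : EtCoh.H X (EtCoh.mu X n) 1) :
    toGm X n x = Ext.comp x (Ext.mk₀ (EtCoh.muι X n)) (add_zero 1) := rfl

theorem toGm_injective (h : Epi (EtCoh.powMap X n))
    (hdiv : ∀ u : (Γ(X, ⊤))ˣ, ∃ v : (Γ(X, ⊤))ˣ, v ^ n = u) : Function.Injective (toGm X n) := by
  rw [injective_iff_map_eq_zero]
  intro x hx
  obtain ⟨y, rfl⟩ := exists_conn_eq _ _ n _ (kummer_shortExact X n h) 0 x hx
  obtain ⟨u, rfl⟩ := (unitsEquivH0 X).surjective y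
  obtain ⟨v, hv⟩ := hdiv (Additive.toMul u)
  have h1 : u = n • Additive.ofMul v := by
    apply Additive.toMul.injective
    rw [← hv]
    rfl
  rw [h1, map_nsmul]
  exact conn_nsmul _ _ n _ (kummer_shortExact X n h) 0 _

theorem exists_toGm_iff (h : Epi (EtCoh.powMap X n)) (z : EtCoh.H X (EtCoh.Gm X) 1) :
    (∃ x, toGm X n x = z) ↔ n • z = 0 := by
  have h2 : n • z = Ext.comp z (Ext.mk₀ (n • 𝟙 (EtCoh.Gm X))) (add_zero 1) :=
    (comp_nsmul_id n 1 z).symm
  constructor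
  · rintro ⟨x, rfl⟩
    rw [h2, toGm_apply]
    rw [Ext.comp_assoc_of_second_deg_zero, Ext.mk₀_comp_mk₀, kummer_zero, Ext.mk₀_zero, Ext.comp_zero]
  · intro hz
    rw [h2] at hz
    obtain ⟨x, hx⟩ := Ext.covariant_sequence_exact₂ _ (kummer_shortExact X n h) z hz
    exact ⟨x, hx⟩

/-- `H¹(X, μ_n) ≅ Pic(X)[n]` when the global units of `X` are `n`-divisible. -/
theorem nonempty_equiv (h : Epi (EtCoh.powMap X n))
    (hdiv : ∀ u : (Γ(X, ⊤))ˣ, ∃ v : (Γ(X, ⊤))ˣ, v ^ n = u) :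
    Nonempty (EtCoh.H X (EtCoh.mu X n) 1 ≃ {c : Groth.Agent.Grpsch.PicGrp.Pic X // c ^ n = 1}) := by
  let E := Groth.Agent.CurvesA.H1GmPic.h1Equiv X
  refine ⟨Equiv.ofBijective (fun x => ⟨(E (toGm X n x)).toMul, ?_⟩) ⟨?_, ?_⟩⟩
  · have h1 : n • toGm X n x = 0 := (exists_toGm_iff X n h _).mp ⟨x, rfl⟩
    have h2 : n • E (toGm X n x) = 0 := by rw [← map_nsmul, h1, map_zero]
    exact congrArg Additive.toMul h2
  · intro x y hxy
    apply toGm_injective X n h hdiv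
    apply E.injective
    exact Additive.toMul.injective (congrArg Subtype.val hxy)
  · rintro ⟨c, hc⟩
    obtain ⟨z, hz⟩ := E.surjective (Additive.ofMul c)
    have h1 : n • z = 0 := by
      apply E.injective
      rw [map_nsmul, hz, map_zero]
      exact congrArg Additive.ofMul hc
    obtain ⟨x, hx⟩ := (exists_toGm_iff X n h z).mpr h1
    refine ⟨x, Subtype.ext ?_⟩
    change (E (toGm X n x)).toMul = c
    rw [hx, hz]
    rfl

end K858.KummerPic
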