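import Groth.Agent.EtpbcA.Germ
import Groth.Agent.CohProp.K990.RepLoc
import Groth.Agent.Pi1.H538.Torsor

/-!
# Étale-local agreement of morphisms of étale schemes; finite étale covers as étale schemes

* `Near a b u`: `a` and `b` agree étale-locally near the point `u`; `near_iff`: in terms of geometric points.
* `YE Z`: a finite étale cover as an étale scheme; `toE`; `fe`: comparison of fibres.
-/

set_option autoImplicit false
universe u

open CategoryTheory CategoryTheory.Limits AlgebraicGeometry Opposite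
open Groth.Agent.EtpbcA.Germ

namespace K858.NearE

variable {X : Scheme.{u}}

/-- Étale-local agreement near a point. -/
def Near {U Y : X.Etale} (a b : U ⟶ Y) (u : U.left) : Prop :=
  ∃ (V : X.Etale) (f : V ⟶ U) (v : V.left), f.left v = u ∧ f ≫ a = f ≫ b

/-- Through every point passes a geometric point with algebraically closed field. -/
theorem exists_geomPt' {U : X.Etale} (x : U.left) :
    ∃ (Ω : Type u) (_ : Field Ω) (_ : IsAlgClosed Ω) (ξ : Spec (CommRingCat.of Ω) ⟶ X)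
      (t : Fib ξ U), pt ξ t = x := by
  obtain ⟨l, hl⟩ : ∃ l : Spec (CommRingCat.of (AlgebraicClosure (U.left.residueField x))) ⟶ U.left,
      l default = x := by
    refine ⟨Spec.map (CommRingCat.ofHom (algebraMap (U.left.residueField x) _)) ≫
      U.left.fromSpecResidueField x, ?_⟩
    rw [Scheme.Hom.comp_apply]
    exact Scheme.fromSpecResidueField_apply _ _
  exact ⟨_, inferInstance, inferInstance, l ≫ U.hom, Over.homMk l rfl, hl⟩

section

variable {Ω : Type u} [Field Ω] [IsSepClosed Ω] (ξ : Spec (CommRingCat.of Ω) ⟶ X)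

theorem near_of {U Y : X.Etale} {a b : U ⟶ Y} (t : Fib ξ U) (h : fmap ξ a t = fmap ξ b t) :
    Near a b (pt ξ t) := by
  obtain ⟨V, f, v, hv, e⟩ := K990.CohProp.exists_eq_near ξ a b t h
  exact ⟨V, f, pt ξ v, by rw [← pt_fmap, hv], e⟩

theorem Near.eq {U Y : X.Etale} {a b : U ⟶ Y} {t : Fib ξ U} (h : Near a b (pt ξ t)) :
    fmap ξ a t = fmap ξ b t := by
  obtain ⟨V, f, v, hv, e⟩ := h
  obtain ⟨t', rfl, -⟩ := exists_lift ξ f t v hv
  rw [← fmap_comp, e, fmap_comp]

theorem near_iff {U Y : X.Etale} {a b : U ⟶ Y} (t : Fib ξ U) :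
    Near a b (pt ξ t) ↔ fmap ξ a t = fmap ξ b t := ⟨Near.eq ξ, near_of ξ t⟩

end

theorem Near.comp {U Y Y' : X.Etale} {a b : U ⟶ Y} {u : U.left} (h : Near a b u) (c : Y ⟶ Y') :
    Near (a ≫ c) (b ≫ c) u := by
  obtain ⟨V, f, v, hv, e⟩ := h
  exact ⟨V, f, v, hv, by rw [← Category.assoc, e, Category.assoc]⟩

theorem Near.res {U U' Y : X.Etale} {a b : U ⟶ Y} (c : U' ⟶ U) {u : U'.left}
    (h : Near a b (c.left u)) : Near (c ≫ a) (c ≫ b) u := by
  obtain ⟨Ω, _, _, ξ, t, rfl⟩ := exists_geomPt u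
  rw [near_iff, fmap_comp, fmap_comp]
  exact Near.eq ξ (t := fmap ξ c t) h

/-- The set of points near which two morphisms agree is open. -/
theorem isOpen_near {U Y : X.Etale} (a b : U ⟶ Y) : IsOpen {u : U.left | Near a b u} := by
  rw [isOpen_iff_mem_nhds]
  rintro u ⟨V, f, v, rfl, e⟩
  have hf : Etale f.left := inferInstance
  have ho : IsOpen (Set.range f.left) := f.left.isOpenMap.isOpen_range
  refine Filter.mem_of_superset (ho.mem_nhds ⟨v, rfl⟩) ?_
  rintro _ ⟨w, rfl⟩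
  exact ⟨V, f, w, rfl, e⟩

/-- A finite étale cover as an étale scheme. -/
noncomputable abbrev YE (Z : FEt.Cat X) : X.Etale :=
  haveI : Etale Z.hom := Z.prop.2
  Scheme.Etale.mk Z.hom

/-- Morphisms of covers as morphisms of étale schemes. -/
noncomputable def toE {Z Z' : FEt.Cat X} (φ : Z ⟶ Z') : YE Z ⟶ YE Z' :=
  MorphismProperty.Over.homMk φ.left (CategoryTheory.Over.w φ.hom) trivial

theorem toE_comp {Z Z' Z'' : FEt.Cat X} (φ : Z ⟶ Z') (ψ : Z' ⟶ Z'') : toE (φ ≫ ψ) = toE φ ≫ toE ψ := rfl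

theorem toE_id (Z : FEt.Cat X) : toE (𝟙 Z) = 𝟙 (YE Z) := rfl

/-- Morphisms of étale schemes between finite étale covers. -/
noncomputable def ofE {Z Z' : FEt.Cat X} (φ : YE Z ⟶ YE Z') : Z ⟶ Z' :=
  MorphismProperty.Over.homMk φ.left (CategoryTheory.Over.w φ.hom) trivial

theorem toE_ofE {Z Z' : FEt.Cat X} (φ : YE Z ⟶ YE Z') : toE (ofE φ) = φ := rfl

theorem ofE_toE {Z Z' : FEt.Cat X} (φ : Z ⟶ Z') : ofE (toE φ) = φ := rfl

section

variable {Ω : Type u} [Field Ω] [IsSepClosed Ω] (ξ : Spec (CommRingCat.of Ω) ⟶ X)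

/-- Comparison of the fibres. -/
noncomputable def fe (Z : FEt.Cat X) : Fib ξ (YE Z) ≃ FEt.fiberObj ξ Z where
  toFun t := ⟨t.left, CategoryTheory.Over.w t⟩
  invFun s := CategoryTheory.Over.homMk s.1 s.2
  left_inv _ := rfl
  right_inv _ := rfl

theorem fe_map {Z Z' : FEt.Cat X} (φ : Z ⟶ Z') (t : Fib ξ (YE Z)) :
    fe ξ Z' (fmap ξ (toE φ) t) = (FEt.fiber ξ).map φ (fe ξ Z t) := rfl

theorem fmap_toE {Z Z' : FEt.Cat X} (φ : Z ⟶ Z') (s : FEt.fiberObj ξ Z) :
    fmap ξ (toE φ) ((fe ξ Z).symm s) = (fe ξ Z').symm ((FEt.fiber ξ).map φ s) := rfl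

end

end K858.NearE
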