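import Groth.Agent.JacVar.K858.NearE
import Groth.Agent.Sga7.H731.ClsPull
import Groth.Agent.Sga4B.ConstLC

/-!
# Principal covers and torsor data for the constant sheaf

`Z` a finite étale cover of `X` with an action `ρ` of `Multiplicative M`; a difference map `D` on the functor of
points of `Z` with values in the locally constant functions to `M` is compatible with `ρ` if
`D (s ρ(g), s) = g`.

* `mkD`: a compatible difference map for a principal cover;
* `cl_eq_of_iso`: the class depends only on the isomorphism class of `(Z, ρ)`.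
-/

set_option autoImplicit false
universe u

open CategoryTheory CategoryTheory.Limits AlgebraicGeometry Opposite
open Groth.Agent.EtpbcA.Germ K858.NearE
open Groth.Agent.CurvesA.Torsor Groth.Agent.CurvesA.TorsorCls Groth.Agent.CurvesA.TorsorOps
open Groth.Agent.Sga4B.ConstLC Groth.Agent.Sga7.H731.ClsPull Groth.Agent.Pi1.H538.Torsor
open K990.CohProp (repPre)

namespace K858.TorData

variable {X : Scheme.{u}} {M : Type} [AddCommGroup M]

/-- The coefficients. -/
abbrev A (M : Type) : Type (u + 1) := ULift.{u + 1} M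

variable {Z Z' : FEt.Cat X}

/-- The group acting on the étale scheme. -/
noncomputable def ac (ρ : Multiplicative M →* Aut Z) (g : Multiplicative M) : YE Z ⟶ YE Z := toE (ρ g).hom

theorem ac_mul (ρ : Multiplicative M →* Aut Z) (g h : Multiplicative M) :
    ac ρ (g * h) = ac ρ h ≫ ac ρ g := by
  rw [ac, map_mul]
  rfl

theorem ac_one (ρ : Multiplicative M →* Aut Z) : ac ρ 1 = 𝟙 _ := by
  rw [ac, map_one]
  rfl

/-- `D` as a function of morphisms, with values in locally constant functions. -/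
def dd (D : DiffMap (LC X (A M)).obj (repPre (YE Z))) {U : X.Etale} (p q : U ⟶ YE Z) :
    LocallyConstant U.left (A.{u} M) := D.d (op U) ⟨p⟩ ⟨q⟩

theorem dd_map (D : DiffMap (LC X (A M)).obj (repPre (YE Z))) {U V : X.Etale} (f : V ⟶ U) (p q : U ⟶ YE Z)
    (v : V.left) : dd D p q (f.left v) = dd D (f ≫ p) (f ≫ q) v := by
  have h := D.d_map f.op ⟨p⟩ ⟨q⟩
  exact congrArg (fun t : LocallyConstant V.left (A.{u} M) => t v) h

theorem dd_add (D : DiffMap (LC X (A M)).obj (repPre (YE Z))) {U : X.Etale} (p q r : U ⟶ YE Z)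
    (v : U.left) : dd D p q v + dd D q r v = dd D p r v :=
  congrArg (fun t : LocallyConstant U.left (A.{u} M) => t v) (D.d_add (op U) ⟨p⟩ ⟨q⟩ ⟨r⟩)

/-- Compatibility of a difference map with an action. -/
def Compat (ρ : Multiplicative M →* Aut Z) (D : DiffMap (LC X (A M)).obj (repPre (YE Z))) : Prop :=
  ∀ (U : X.Etale) (s : U ⟶ YE Z) (g : Multiplicative M) (x : U.left),
    dd D (s ≫ ac ρ g) s x = ⟨Multiplicative.toAdd g⟩

theorem dd_eq {ρ : Multiplicative M →* Aut Z} {D : DiffMap (LC X (A M)).obj (repPre (YE Z))}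
    (h : Compat ρ D) {U : X.Etale} {p q : U ⟶ YE Z} {g : Multiplicative M} {u : U.left}
    (hn : Near (q ≫ ac ρ g) p u) : dd D p q u = ⟨Multiplicative.toAdd g⟩ := by
  obtain ⟨V, f, v, rfl, e⟩ := hn
  rw [dd_map, ← e, ← Category.assoc]
  exact h V (f ≫ q) g v

section principal

variable {ρ : Multiplicative M →* Aut Z} {ρ' : Multiplicative M →* Aut Z'}

theorem exists_near (hρ : SGA1t.IsPrincipal (Multiplicative M) Z ρ) {U : X.Etale} (p q : U ⟶ YE Z) (u : U.left) :
    ∃ g : Multiplicative M, Near (q ≫ ac ρ g) p u := by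
  obtain ⟨Ω, _, _, ξ, t, rfl⟩ := exists_geomPt' u
  obtain ⟨g, hg, -⟩ := hρ.2 Ω ξ (fe ξ Z (fmap ξ q t)) (fe ξ Z (fmap ξ p t))
  refine ⟨g, (near_iff ξ t).mpr ?_⟩
  rw [fmap_comp]
  apply (fe ξ Z).injective
  exact hg

theorem near_unique (hρ : SGA1t.IsPrincipal (Multiplicative M) Z ρ) {U : X.Etale} {p q : U ⟶ YE Z} {u : U.left}
    {g g' : Multiplicative M} (h : Near (q ≫ ac ρ g) p u) (h' : Near (q ≫ ac ρ g') p u) : g = g' := by
  obtain ⟨Ω, _, _, ξ, t, rfl⟩ := exists_geomPt' u
  have e := congrArg (fe ξ Z) (Near.eq ξ h)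
  have e' := congrArg (fe ξ Z) (Near.eq ξ h')
  rw [fmap_comp] at e e'
  exact (hρ.2 Ω ξ (fe ξ Z (fmap ξ q t)) (fe ξ Z (fmap ξ p t))).unique e e'

/-- The element taking `q` to `p` near `u`. -/
noncomputable def gd (hρ : SGA1t.IsPrincipal (Multiplicative M) Z ρ) {U : X.Etale} (p q : U ⟶ YE Z) (u : U.left) :
    Multiplicative M := (exists_near hρ p q u).choose

theorem near_gd (hρ : SGA1t.IsPrincipal (Multiplicative M) Z ρ) {U : X.Etale} (p q : U ⟶ YE Z) (u : U.left) :
    Near (q ≫ ac ρ (gd hρ p q u)) p u := (exists_near hρ p q u).choose_spec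

theorem gd_eq_iff (hρ : SGA1t.IsPrincipal (Multiplicative M) Z ρ) {U : X.Etale} (p q : U ⟶ YE Z) (u : U.left)
    (g : Multiplicative M) : gd hρ p q u = g ↔ Near (q ≫ ac ρ g) p u := by
  constructor
  · rintro rfl
    exact near_gd hρ p q u
  · exact fun h => near_unique hρ (near_gd hρ p q u) h

/-- The compatible difference map of a principal cover. -/
noncomputable def mkD (hρ : SGA1t.IsPrincipal (Multiplicative M) Z ρ) :
    DiffMap (LC X (A M)).obj (repPre (YE Z)) where
  d U p q := (⟨fun u => ⟨Multiplicative.toAdd (gd hρ (U := U.unop) p.down q.down u)⟩, by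
    rw [IsLocallyConstant.iff_exists_open]
    intro u
    refine ⟨_, isOpen_near (q.down ≫ ac ρ (gd hρ p.down q.down u)) p.down, near_gd hρ _ _ u, ?_⟩
    intro v hv
    exact congrArg (fun g => (⟨Multiplicative.toAdd g⟩ : A.{u} M)) ((gd_eq_iff hρ _ _ _ _).mpr hv)⟩ :
      LocallyConstant U.unop.left (A.{u} M))
  d_add U p q r := by
    apply LocallyConstant.ext
    intro u
    change (⟨Multiplicative.toAdd (gd hρ (U := U.unop) p.down q.down u) +
      Multiplicative.toAdd (gd hρ (U := U.unop) q.down r.down u)⟩ : A.{u} M) =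
        ⟨Multiplicative.toAdd (gd hρ (U := U.unop) p.down r.down u)⟩
    have h : gd hρ (U := U.unop) p.down r.down u =
        gd hρ (U := U.unop) p.down q.down u * gd hρ (U := U.unop) q.down r.down u := by
      rw [gd_eq_iff, ac_mul]
      obtain ⟨Ω, _, _, ξ, t, rfl⟩ := exists_geomPt' u
      have h1 := Near.eq ξ (near_gd hρ (U := U.unop) p.down q.down (pt ξ t))
      have h2 := Near.eq ξ (near_gd hρ (U := U.unop) q.down r.down (pt ξ t))
      rw [near_iff, ← Category.assoc, fmap_comp, h2, ← fmap_comp, h1]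
    rw [h]
    rfl
  d_map {U V} f p q := by
    apply LocallyConstant.ext
    intro v
    change (⟨Multiplicative.toAdd (gd hρ (U := U.unop) p.down q.down (f.unop.left v))⟩ : A.{u} M) =
      ⟨Multiplicative.toAdd (gd hρ (U := V.unop) (f.unop ≫ p.down) (f.unop ≫ q.down) v)⟩
    have h : gd hρ (U := V.unop) (f.unop ≫ p.down) (f.unop ≫ q.down) v =
        gd hρ (U := U.unop) p.down q.down (f.unop.left v) := by
      rw [gd_eq_iff, Category.assoc]
      exact Near.res f.unop (near_gd hρ (U := U.unop) p.down q.down (f.unop.left v))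
    rw [h]

theorem compat_mkD (hρ : SGA1t.IsPrincipal (Multiplicative M) Z ρ) : Compat ρ (mkD hρ) := by
  intro U s g x
  change (⟨Multiplicative.toAdd (gd hρ (U := U) (s ≫ ac ρ g) s x)⟩ : A.{u} M) = _
  have h : gd hρ (U := U) (s ≫ ac ρ g) s x = g := by
    rw [gd_eq_iff]
    exact ⟨U, 𝟙 _, x, rfl, rfl⟩
  rw [h]

/-- The class of a compatible datum depends only on the isomorphism class of the cover with its action. -/
theorem cl_eq_of_iso (hρ : SGA1t.IsPrincipal (Multiplicative M) Z ρ) (e : Z ⟶ Z') (he : Equivariant ρ ρ' e)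
    {D : DiffMap (LC X (A M)).obj (repPre (YE Z))} {D' : DiffMap (LC X (A M)).obj (repPre (YE Z'))}
    (hD : Compat ρ D) (hD' : Compat ρ' D')
    (hP : supp (repPre (YE Z)) (EtCoh.top X) ∈ X.smallEtaleTopology (EtCoh.top X))
    (hP' : supp (repPre (YE Z')) (EtCoh.top X) ∈ X.smallEtaleTopology (EtCoh.top X)) :
    cl (LC X (A M)) D hP = cl (LC X (A M)) D' hP' := by
  have hac : ∀ g, ac ρ g ≫ toE e = toE e ≫ ac ρ' g := fun g => by
    rw [ac, ac, ← toE_comp, ← toE_comp, he g]
  refine cl_congr D' D (fun U p => ⟨p.down ≫ toE e⟩) ?_ ?_ hP' hP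
  · intro U V f p
    change (⟨(f.unop ≫ p.down) ≫ toE e⟩ : ULift (V.unop ⟶ YE Z')) = ⟨f.unop ≫ p.down ≫ toE e⟩
    rw [Category.assoc]
  · intro U p q
    apply LocallyConstant.ext
    intro u
    change dd D p.down q.down u = dd D' (p.down ≫ toE e) (q.down ≫ toE e) u
    obtain ⟨g, hg⟩ := exists_near hρ (U := U.unop) p.down q.down u
    rw [dd_eq hD hg, dd_eq hD' (g := g)]
    have h1 := hg.comp (toE e)
    rw [Category.assoc, hac g] at h1
    rwa [Category.assoc]

end principal

theorem supp_mem_of_surj (hZ : Function.Surjective Z.hom.base) :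
    supp (repPre (YE Z)) (EtCoh.top X) ∈ X.smallEtaleTopology (EtCoh.top X) := by
  rw [mem_smallEtale_iff]
  intro x
  obtain ⟨y, hy⟩ := hZ x
  refine ⟨YE Z, (EtCore.topIsTerminal X).from _, y, ⟨⟨𝟙 _⟩⟩, ?_⟩
  have h : ((EtCore.topIsTerminal X).from (YE Z)).left = Z.hom := by
    exact (Category.comp_id _).symm.trans (MorphismProperty.Over.w ((EtCore.topIsTerminal X).from (YE Z)))
  rw [h]
  exact hy

end K858.TorData
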