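import Groth.Agent.JacVar.K858.TorData

/-!
# The class determines the homomorphism

`homOf_eq_of_cl_eq`: two pointed principal covers with compatible torsor data of the same class define the same
homomorphism of the fundamental group.
-/

set_option autoImplicit false
universe u

open CategoryTheory CategoryTheory.Limits AlgebraicGeometry Opposite
open Groth.Agent.EtpbcA.Germ K858.NearE K858.TorData
open Groth.Agent.CurvesA.Torsor Groth.Agent.CurvesA.TorsorCls Groth.Agent.CurvesA.TorsorOps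
open Groth.Agent.Sga4B.ConstLC Groth.Agent.Sga7.H731.ClsPull Groth.Agent.Pi1.H538.Torsor
open K990.CohProp (repPre)

namespace K858.TorInj

variable {X : Scheme.{u}}

section neg

variable {F : EtCoh.Ab X} {P P' : X.Etaleᵒᵖ ⥤ Type (u + 1)}

/-- The opposite torsor datum. -/
def negD (D : DiffMap F.obj P) : DiffMap F.obj P where
  d U p q := - D.d U p q
  d_add U p q r := by rw [← neg_add, D.d_add]
  d_map {U V} f p q := by rw [map_neg, D.d_map]

theorem cl_negD (D : DiffMap F.obj P) (hP : supp P (EtCoh.top X) ∈ X.smallEtaleTopology (EtCoh.top X)) :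
    cl F D hP + cl F (negD D) hP = 0 := by
  rw [← cl_prodD, cl_eq_zero_iff]
  refine ⟨fun U p => D.d U p.1 p.2, ?_, ?_⟩
  · intro U V f p
    exact (D.d_map f p.1 p.2).symm
  · intro U p q
    change D.d U p.1 p.2 - D.d U q.1 q.2 = D.d U p.1 q.1 + (- D.d U p.2 q.2)
    rw [← D.d_add U p.1 q.1 p.2, ← D.d_add U q.1 q.2 p.2, D.d_neg U q.2 p.2]
    abel

/-- Comparison of two torsor data with the same class. -/
theorem exists_of_cl_eq (D : DiffMap F.obj P) (D' : DiffMap F.obj P')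
    (hP : supp P (EtCoh.top X) ∈ X.smallEtaleTopology (EtCoh.top X))
    (hP' : supp P' (EtCoh.top X) ∈ X.smallEtaleTopology (EtCoh.top X)) (h : cl F D hP = cl F D' hP') :
    ∃ h : ∀ U : X.Etaleᵒᵖ, P.obj U → P'.obj U → F.obj.obj U,
      (∀ {U V : X.Etaleᵒᵖ} (f : U ⟶ V) (p : P.obj U) (p' : P'.obj U),
        h V (P.map f p) (P'.map f p') = F.obj.map f (h U p p')) ∧
      ∀ (U : X.Etaleᵒᵖ) (p q : P.obj U) (p' q' : P'.obj U),
        h U p p' - h U q q' = D.d U p q - D'.d U p' q' := by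
  have h0 : cl F (prodD D (negD D')) (supp_prodP P P' hP hP') = 0 :=
    (cl_prodD D (negD D') hP hP').trans ((congrArg (· + _) h).trans (cl_negD D' hP'))
  obtain ⟨k, hk, hk'⟩ := (cl_eq_zero_iff _ _).mp h0
  refine ⟨fun U p p' => k U (p, p'), ?_, ?_⟩
  · intro U V f p p'
    exact hk f (p, p')
  · intro U p q p' q'
    refine (hk' U (p, p') (q, q')).trans ?_
    exact (sub_eq_add_neg _ _).symm

end neg

section prod

variable (Z Z' : FEt.Cat X)

/-- The fibre product of two covers. -/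
noncomputable def W : FEt.Cat X :=
  have : IsFinite Z.hom := Z.prop.1
  have : Etale Z.hom := Z.prop.2
  have : IsFinite Z'.hom := Z'.prop.1
  have : Etale Z'.hom := Z'.prop.2
  MorphismProperty.Over.mk ⊤ (pullback.fst Z.hom Z'.hom ≫ Z.hom) ⟨inferInstance, inferInstance⟩

/-- The first projection. -/
noncomputable def p₁ : W Z Z' ⟶ Z := MorphismProperty.Over.homMk (pullback.fst Z.hom Z'.hom) rfl trivial

/-- The second projection. -/
noncomputable def p₂ : W Z Z' ⟶ Z' :=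
  MorphismProperty.Over.homMk (pullback.snd Z.hom Z'.hom) pullback.condition.symm trivial

variable {Z Z'}

/-- The pairing of two morphisms. -/
noncomputable def pr {T : FEt.Cat X} (a : T ⟶ Z) (b : T ⟶ Z') : T ⟶ W Z Z' :=
  MorphismProperty.Over.homMk (pullback.lift a.left b.left (by
    exact (CategoryTheory.Over.w a.hom).trans (CategoryTheory.Over.w b.hom).symm)) (by
    change pullback.lift a.left b.left _ ≫ pullback.fst Z.hom Z'.hom ≫ Z.hom = T.hom
    rw [pullback.lift_fst_assoc]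
    exact CategoryTheory.Over.w a.hom) trivial

theorem pr_p₁ {T : FEt.Cat X} (a : T ⟶ Z) (b : T ⟶ Z') : pr a b ≫ p₁ Z Z' = a := by
  apply MorphismProperty.Over.Hom.ext
  exact pullback.lift_fst _ _ _

theorem pr_p₂ {T : FEt.Cat X} (a : T ⟶ Z) (b : T ⟶ Z') : pr a b ≫ p₂ Z Z' = b := by
  apply MorphismProperty.Over.Hom.ext
  exact pullback.lift_snd _ _ _

variable {Ω : Type u} [Field Ω] {ξ : Spec (CommRingCat.of Ω) ⟶ X}

/-- A point of the fibre of the product. -/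
noncomputable def pp (z : FEt.fiberObj ξ Z) (z' : FEt.fiberObj ξ Z') : FEt.fiberObj ξ (W Z Z') :=
  ⟨pullback.lift z.1 z'.1 (z.2.trans z'.2.symm), by
    change pullback.lift z.1 z'.1 _ ≫ pullback.fst Z.hom Z'.hom ≫ Z.hom = ξ
    rw [pullback.lift_fst_assoc, z.2]⟩

theorem map_p₁ (z : FEt.fiberObj ξ Z) (z' : FEt.fiberObj ξ Z') : (FEt.fiber ξ).map (p₁ Z Z') (pp z z') = z :=
  Subtype.ext (pullback.lift_fst _ _ _)

theorem map_p₂ (z : FEt.fiberObj ξ Z) (z' : FEt.fiberObj ξ Z') : (FEt.fiber ξ).map (p₂ Z Z') (pp z z') = z' :=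
  Subtype.ext (pullback.lift_snd _ _ _)

theorem fib_ext {w w' : FEt.fiberObj ξ (W Z Z')}
    (h₁ : (FEt.fiber ξ).map (p₁ Z Z') w = (FEt.fiber ξ).map (p₁ Z Z') w')
    (h₂ : (FEt.fiber ξ).map (p₂ Z Z') w = (FEt.fiber ξ).map (p₂ Z Z') w') : w = w' := by
  apply Subtype.ext
  exact pullback.hom_ext (congrArg Subtype.val h₁) (congrArg Subtype.val h₂)

end prod

open Groth.Agent.Pi1.H538.Sets Groth.Agent.Pi1.H418.TopGen Groth.Agent.Pi1.H418.Push in
theorem homOf_eq_of_cl_eq {M : Type} [AddCommGroup M] {Ω : Type u} [Field Ω]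
    {ξ : Spec (CommRingCat.of Ω) ⟶ X} {Z Z' : FEt.Cat X}
    {ρ : Multiplicative M →* Aut Z} {ρ' : Multiplicative M →* Aut Z'}
    (h : SimplyTransitive ξ ρ) (h' : SimplyTransitive ξ ρ') (z : FEt.fiberObj ξ Z) (z' : FEt.fiberObj ξ Z')
    {D : DiffMap (LC X (A M)).obj (repPre (YE Z))} {D' : DiffMap (LC X (A M)).obj (repPre (YE Z'))}
    (hD : Compat ρ D) (hD' : Compat ρ' D')
    (hP : supp (repPre (YE Z)) (EtCoh.top X) ∈ X.smallEtaleTopology (EtCoh.top X))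
    (hP' : supp (repPre (YE Z')) (EtCoh.top X) ∈ X.smallEtaleTopology (EtCoh.top X))
    (hcl : cl (LC X (A M)) D hP = cl (LC X (A M)) D' hP') : homOf h z = homOf h' z' := by
  obtain ⟨k, hk, hk'⟩ := exists_of_cl_eq D D' hP hP' hcl
  refine MonoidHom.ext fun γ => ?_
  let g := homOf h z γ
  let g' := homOf h' z' γ
  let w := pp z z'
  let a : W Z Z' ⟶ W Z Z' := pr (p₁ Z Z' ≫ (ρ g⁻¹).hom) (p₂ Z Z' ≫ (ρ' g'⁻¹).hom)
  have hw : γ.hom.app (W Z Z') w = (FEt.fiber ξ).map a w := by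
    apply fib_ext
    · rw [← naturality, map_p₁, ← map_comp_apply, pr_p₁, map_comp_apply, map_p₁, homOf_spec h z γ]
      rfl
    · rw [← naturality, map_p₂, ← map_comp_apply, pr_p₂, map_comp_apply, map_p₂, homOf_spec h' z' γ]
      rfl
  let f0 : LocallyConstant (YE (W Z Z')).left (A.{u} M) :=
    k (op (YE (W Z Z'))) ⟨toE (p₁ Z Z')⟩ ⟨toE (p₂ Z Z')⟩
  have hcl0 : IsClopen {x : (W Z Z').left | f0 x = f0 (Groth.Agent.Pi1.H418.TopGen.pt w)} :=
    f0.isLocallyConstant.isClopen_fiber (f0 (Groth.Agent.Pi1.H418.TopGen.pt w))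
  have h1 : f0 (Groth.Agent.Pi1.H418.TopGen.pt (γ.hom.app (W Z Z') w)) =
      f0 (Groth.Agent.Pi1.H418.TopGen.pt w) :=
    (path_mem_iff γ hcl0 w).mpr rfl
  have h2 : f0 (Groth.Agent.Pi1.H418.TopGen.pt ((FEt.fiber ξ).map a w)) =
      f0 (Groth.Agent.Pi1.H418.TopGen.pt w) + (⟨Multiplicative.toAdd g⁻¹⟩ - ⟨Multiplicative.toAdd g'⁻¹⟩) := by
    have e1 := hk (toE a).op ⟨toE (p₁ Z Z')⟩ ⟨toE (p₂ Z Z')⟩
    have e2 := hk' (op (YE (W Z Z'))) ⟨toE (p₁ Z Z') ≫ ac ρ g⁻¹⟩ ⟨toE (p₁ Z Z')⟩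
      ⟨toE (p₂ Z Z') ≫ ac ρ' g'⁻¹⟩ ⟨toE (p₂ Z Z')⟩
    have e3 := congrArg (fun t : LocallyConstant (YE (W Z Z')).left (A.{u} M) =>
      t (Groth.Agent.Pi1.H418.TopGen.pt w)) e1
    have e4 := congrArg (fun t : LocallyConstant (YE (W Z Z')).left (A.{u} M) =>
      t (Groth.Agent.Pi1.H418.TopGen.pt w)) e2
    have d1 := hD (YE (W Z Z')) (toE (p₁ Z Z')) g⁻¹ (Groth.Agent.Pi1.H418.TopGen.pt w)
    have d2 := hD' (YE (W Z Z')) (toE (p₂ Z Z')) g'⁻¹ (Groth.Agent.Pi1.H418.TopGen.pt w)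
    have c1 : toE a ≫ toE (p₁ Z Z') = toE (p₁ Z Z') ≫ ac ρ g⁻¹ := congrArg toE (pr_p₁ _ _)
    have c2 : toE a ≫ toE (p₂ Z Z') = toE (p₂ Z Z') ≫ ac ρ' g'⁻¹ := congrArg toE (pr_p₂ _ _)
    have e5 : (show LocallyConstant (YE (W Z Z')).left (A.{u} M) from
        k (op (YE (W Z Z'))) ⟨toE (p₁ Z Z') ≫ ac ρ g⁻¹⟩ ⟨toE (p₂ Z Z') ≫ ac ρ' g'⁻¹⟩)
        (Groth.Agent.Pi1.H418.TopGen.pt w) =
        f0 (Groth.Agent.Pi1.H418.TopGen.pt ((FEt.fiber ξ).map a w)) := by
      rw [← c1, ← c2]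
      exact e3
    rw [← e5, ← sub_eq_iff_eq_add', ← d1, ← d2]
    exact e4
  rw [hw, h2, add_eq_left, sub_eq_zero] at h1
  have h3 : g⁻¹ = g'⁻¹ := Multiplicative.toAdd.injective (ULift.up_injective h1)
  exact inv_injective (G := Multiplicative M) h3

end K858.TorInj
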