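import Groth.Agent.JacVar.K858.TorSurj

/-!
# `Hom_cont(π₁(X, ξ), M) ≃ H¹(X, M)` for a connected scheme `X` and a finite abelian group `M`
-/

set_option autoImplicit false
universe u

open CategoryTheory CategoryTheory.Limits AlgebraicGeometry Opposite
open Groth.Agent.EtpbcA.Germ K858.NearE K858.TorData K858.TorInj K858.TorSurj
open Groth.Agent.CurvesA.Torsor Groth.Agent.CurvesA.TorsorCls Groth.Agent.CurvesA.TorsorOps
open Groth.Agent.Sga4B.ConstLC Groth.Agent.Sga7.H731.ClsPull Groth.Agent.Pi1.H538.Torsor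
open Groth.Agent.CurvesA.Hilbert90 (IsTorsor)
open scoped Groth.Agent.Etcore.EtInst
open Groth.Agent.Etcore.EtInst
open K990.CohProp (repPre)

namespace K858.TorMain

variable {X : Scheme.{u}} {M : Type} [AddCommGroup M] {Ω : Type u} [Field Ω]
  (ξ : Spec (CommRingCat.of Ω) ⟶ X)

/-- The homomorphism `θ` and the class `x` come from the same pointed principal cover. -/
def Rel (θ : FEt.piOne X ξ →* Multiplicative M) (x : HH X (LC X (A M)) 1) : Prop :=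
  ∃ (Z : FEt.Cat X) (ρ : Multiplicative M →* Aut Z) (h : SimplyTransitive ξ ρ) (z : FEt.fiberObj ξ Z)
    (D : DiffMap (LC X (A M)).obj (repPre (YE Z)))
    (hP : supp (repPre (YE Z)) (EtCoh.top X) ∈ X.smallEtaleTopology (EtCoh.top X)),
    Compat ρ D ∧ homOf h z = θ ∧ cl (LC X (A M)) D hP = x

theorem rel_left {θ θ' : FEt.piOne X ξ →* Multiplicative M} {x : HH X (LC X (A M)) 1}
    (h : Rel ξ θ x) (h' : Rel ξ θ' x) : θ = θ' := by
  obtain ⟨Z, ρ, hρ, z, D, hP, hD, rfl, hx⟩ := h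
  obtain ⟨Z', ρ', hρ', z', D', hP', hD', rfl, hx'⟩ := h'
  exact homOf_eq_of_cl_eq hρ hρ' z z' hD hD' hP hP' (hx.trans hx'.symm)

variable [ConnectedSpace X] [IsAlgClosed Ω]

theorem rel_right {θ : FEt.piOne X ξ →* Multiplicative M} {x x' : HH X (LC X (A M)) 1}
    (h : Rel ξ θ x) (h' : Rel ξ θ x') : x = x' := by
  obtain ⟨Z, ρ, hρ, z, D, hP, hD, h1, rfl⟩ := h
  obtain ⟨Z', ρ', hρ', z', D', hP', hD', h2, rfl⟩ := h'
  obtain ⟨e, he, -⟩ := exists_iso_of_homOf_eq hρ hρ' z z' (h1.trans h2.symm)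
  exact cl_eq_of_iso (isPrincipal hρ z) e.hom he hD hD' hP hP'

theorem exists_rel [Finite M] (θ : FEt.piOne X ξ →* Multiplicative M)
    (hθ : IsOpen (θ.ker : Set (FEt.piOne X ξ))) : ∃ x, Rel ξ θ x := by
  have : Finite (Multiplicative M) := ‹Finite M›
  obtain ⟨Z, ρ, h, z, rfl⟩ := exists_torsor θ hθ
  have hp := isPrincipal h z
  exact ⟨_, Z, ρ, h, z, mkD hp, supp_mem_of_surj hp.1, compat_mkD hp, rfl, rfl⟩

theorem exists_rel' [Finite M] (x : HH X (LC X (A M)) 1) :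
    ∃ θ : FEt.piOne X ξ →* Multiplicative M, IsOpen (θ.ker : Set (FEt.piOne X ξ)) ∧ Rel ξ θ x := by
  obtain ⟨P, D, hP, hT, -, hx⟩ := exists_clsOf_eq (EtCore.topIsTerminal X) (F := LC X (A M)) x
  obtain ⟨Z, ρ, D', hP', hD', hsurj, hcl, hst⟩ := exists_cover hT hP
  have hpr : SGA1t.IsPrincipal (Multiplicative M) Z ρ := ⟨hsurj, fun Ω' _ _ ξ' s t => hst Ω' ξ' s t⟩
  obtain ⟨z⟩ := nonempty_of_isPrincipal hpr ξ
  exact ⟨homOf (hst Ω ξ) z, isOpen_ker_homOf _ _, Z, ρ, hst Ω ξ, z, D', hP', hD', rfl, hcl.trans hx⟩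

theorem nonempty_equiv (M : Type) [AddCommGroup M] [Finite M] :
    Nonempty ({θ : FEt.piOne X ξ →* Multiplicative M // IsOpen (θ.ker : Set (FEt.piOne X ξ))} ≃
      HH X (LC X (A.{u} M)) 1) := by
  choose f hf using exists_rel (M := M) ξ
  refine ⟨Equiv.ofBijective (fun θ => f θ.1 θ.2) ⟨?_, ?_⟩⟩
  · rintro ⟨θ, hθ⟩ ⟨θ', hθ'⟩ h
    have h' : f θ hθ = f θ' hθ' := h
    have h1 := hf θ hθ
    rw [h'] at h1
    exact Subtype.ext (rel_left ξ h1 (hf θ' hθ'))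
  · intro x
    obtain ⟨θ, hθ, hr⟩ := exists_rel' ξ x
    exact ⟨⟨θ, hθ⟩, rel_right ξ (hf θ hθ) hr⟩

/-- `Hom_cont(π₁(X, ξ), M) ≃ H¹(X, M)`. -/
theorem nonempty_equiv_H1 (M : Type) [AddCommGroup M] [Finite M] :
    Nonempty ({θ : FEt.piOne X ξ →* Multiplicative M // IsOpen (θ.ker : Set (FEt.piOne X ξ))} ≃
      EtCoh.H X (EtCoh.const X M) 1) := by
  obtain ⟨e⟩ := nonempty_equiv ξ M
  exact ⟨e.trans (HHcongr (constIso X M).symm 1).toEquiv⟩

end K858.TorMain
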