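import Groth.Agent.JacVar.K858.TorInj
import Groth.Agent.Etbase.FLCRep

/-!
# Every torsor under a finite constant sheaf is a principal cover
-/

set_option autoImplicit false
universe u

open CategoryTheory CategoryTheory.Limits AlgebraicGeometry Opposite
open Groth.Agent.EtpbcA.Germ K858.NearE K858.TorData K858.TorInj
open Groth.Agent.CurvesA.Torsor Groth.Agent.CurvesA.TorsorCls Groth.Agent.CurvesA.TorsorOps
open Groth.Agent.Sga4B.ConstLC Groth.Agent.Sga7.H731.ClsPull Groth.Agent.Pi1.H538.Torsor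
open Groth.Agent.CurvesA.Hilbert90 (IsTorsor)
open Groth.Agent.Etbase.EtRep (map_map)
open K990.CohProp (repPre)

namespace K858.TorSurj

variable {X : Scheme.{u}} {M : Type} [AddCommGroup M] {P : X.Etaleᵒᵖ ⥤ Type (u + 1)}
  (D : DiffMap (LC X (A M)).obj P)

/-- The difference, as a locally constant function. -/
def d₀ {U : X.Etale} (p q : P.obj (op U)) : LocallyConstant U.left (A.{u} M) := D.d (op U) p q

theorem d₀_map {U V : X.Etale} (f : V ⟶ U) (p q : P.obj (op U)) (v : V.left) :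
    d₀ D p q (f.left v) = d₀ D (P.map f.op p) (P.map f.op q) v :=
  congrArg (fun t : LocallyConstant V.left (A.{u} M) => t v) (D.d_map f.op p q)

theorem d₀_add {U : X.Etale} (p q r : P.obj (op U)) (v : U.left) :
    d₀ D p q v + d₀ D q r v = d₀ D p r v :=
  congrArg (fun t : LocallyConstant U.left (A.{u} M) => t v) (D.d_add (op U) p q r)

theorem d₀_neg {U : X.Etale} (p q : P.obj (op U)) (v : U.left) : d₀ D p q v = - d₀ D q p v :=
  congrArg (fun t : LocallyConstant U.left (A.{u} M) => t v) (D.d_neg (op U) p q)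

variable {D}

theorem eq_of_d₀ (hT : IsTorsor X.smallEtaleTopology D) {U : X.Etale} {p q : P.obj (op U)}
    (h : ∀ v, d₀ D p q v = 0) : p = q :=
  hT.inj (op U) p q (LocallyConstant.ext (f := (d₀ D p q : LocallyConstant U.left (A.{u} M))) (g := 0) h)

theorem eq_near (hT : IsTorsor X.smallEtaleTopology D) {U : X.Etale} (p q : P.obj (op U)) (u : U.left)
    (h : d₀ D p q u = 0) :
    ∃ (V : X.Etale) (f : V ⟶ U) (v : V.left), f.left v = u ∧ P.map f.op p = P.map f.op q := by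
  let N : U.left.Opens := ⟨{x | d₀ D p q x = 0}, (d₀ D p q).isLocallyConstant.isOpen_fiber 0⟩
  refine ⟨openSub U N, openSubι U N, ⟨u, h⟩, rfl, eq_of_d₀ hT fun v => ?_⟩
  rw [← d₀_map]
  exact v.2

theorem exists_act (hT : IsTorsor X.smallEtaleTopology D) {U : X.Etale} (p : P.obj (op U)) (g : M) :
    ∃ q : P.obj (op U), ∀ v, d₀ D q p v = ⟨g⟩ := by
  obtain ⟨q, hq⟩ := hT.act (op U) p (LocallyConstant.const U.left (⟨g⟩ : A.{u} M))
  exact ⟨q, fun v => congrArg (fun t : LocallyConstant U.left (A.{u} M) => t v) hq⟩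

/-- The translate. -/
noncomputable def actm (hT : IsTorsor X.smallEtaleTopology D) {U : X.Etale} (p : P.obj (op U)) (g : M) :
    P.obj (op U) := (exists_act hT p g).choose

theorem d₀_actm (hT : IsTorsor X.smallEtaleTopology D) {U : X.Etale} (p : P.obj (op U)) (g : M) (v : U.left) :
    d₀ D (actm hT p g) p v = ⟨g⟩ := (exists_act hT p g).choose_spec v

theorem exists_rep [Finite M] (hT : IsTorsor X.smallEtaleTopology D)
    (hP : supp P (EtCoh.top X) ∈ X.smallEtaleTopology (EtCoh.top X)) :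
    ∃ (Y : X.Etale) (η : P.obj (op Y)), IsFinite Y.hom ∧
      (∀ T : X.Etale, Function.Bijective (fun f : T ⟶ Y => P.map f.op η)) ∧ Function.Surjective Y.hom.base := by
  have hch : ∀ x : X, ∃ (U : X.Etale) (y : U.left) (_ : U.hom y = x), Nonempty (P.obj (op U)) := by
    intro x
    rw [mem_smallEtale_iff] at hP
    obtain ⟨U, f, y, hf, hy⟩ := hP x
    refine ⟨U, y, ?_, hf⟩
    have h : f.left = U.hom := by
      exact (Category.comp_id _).symm.trans (MorphismProperty.Over.w f)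
    rw [← h]
    exact hy
  obtain ⟨Y, η, hfin, huniv⟩ := Groth.Agent.Etbase.FLCRep.exists_rep_of_locallyConstant hT.sheaf (fun x => by
    obtain ⟨U, y, hy, ⟨p⟩⟩ := hch x
    refine ⟨U, y, hy, M, inferInstance, actm hT p, ?_, ?_⟩
    · intro T a t m m' e
      have h1 := d₀_actm hT p m (a.left t)
      have h2 := d₀_actm hT p m' (a.left t)
      rw [d₀_map, e, ← d₀_map, h2] at h1
      exact (ULift.up_injective h1).symm
    · intro T a t s
      let m : M := (d₀ D s (P.map a.op p) t).down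
      obtain ⟨V, f, v, hv, e⟩ := eq_near hT s (P.map a.op (actm hT p m)) t (by
        rw [← d₀_add D s (P.map a.op p) (P.map a.op (actm hT p m)) t, d₀_neg D (P.map a.op p),
          ← d₀_map, d₀_actm]
        exact add_neg_cancel _)
      exact ⟨m, V, f, v, hv, by rw [e, map_map]⟩)
  refine ⟨Y, η, hfin, huniv, fun x => ?_⟩
  obtain ⟨U, y, hy, ⟨p⟩⟩ := hch x
  obtain ⟨a, -⟩ := (huniv U).2 p
  refine ⟨a.left y, ?_⟩
  rw [← hy]
  have h : a.left ≫ Y.hom = U.hom := MorphismProperty.Over.w a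
  exact congrArg (fun f : U.left ⟶ X => f y) h

section action

variable (hT : IsTorsor X.smallEtaleTopology D) {Y : X.Etale} {η : P.obj (op Y)}
  (huniv : ∀ T : X.Etale, Function.Bijective (fun f : T ⟶ Y => P.map f.op η))

/-- The action on the representing object. -/
noncomputable def σ (g : Multiplicative M) : Y ⟶ Y := ((huniv Y).2 (actm hT η (Multiplicative.toAdd g))).choose

theorem map_σ (g : Multiplicative M) :
    P.map (σ hT huniv g).op η = actm hT η (Multiplicative.toAdd g) :=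
  ((huniv Y).2 (actm hT η (Multiplicative.toAdd g))).choose_spec

include huniv in
theorem hom_ext {T : X.Etale} {a b : T ⟶ Y} (h : P.map a.op η = P.map b.op η) : a = b := (huniv T).1 h

theorem d₀_σ (g : Multiplicative M) {T : X.Etale} (a : T ⟶ Y) (t : T.left) :
    d₀ D (P.map (a ≫ σ hT huniv g).op η) (P.map a.op η) t = ⟨Multiplicative.toAdd g⟩ := by
  rw [← map_map, ← d₀_map, map_σ, d₀_actm]

theorem σ_mul (g h : Multiplicative M) : σ hT huniv (g * h) = σ hT huniv h ≫ σ hT huniv g := by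
  refine hom_ext huniv (eq_of_d₀ hT fun t => ?_)
  have e1 := d₀_σ hT huniv g (σ hT huniv h) t
  have e2 := d₀_σ hT huniv h (𝟙 Y) t
  have e3 := d₀_σ hT huniv (g * h) (𝟙 Y) t
  rw [Category.id_comp] at e2 e3
  rw [← d₀_add D _ (P.map (𝟙 Y : Y ⟶ Y).op η), e3, d₀_neg, ← d₀_add D _ (P.map (σ hT huniv h).op η), e1, e2,
    add_neg_eq_zero]
  rfl

theorem σ_one : σ hT huniv (1 : Multiplicative M) = 𝟙 Y := by
  refine hom_ext huniv (eq_of_d₀ hT fun t => ?_)
  have e2 := d₀_σ hT huniv 1 (𝟙 Y) t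
  rw [Category.id_comp] at e2
  exact e2

theorem near_σ {T : X.Etale} (a b : T ⟶ Y) (t : T.left) :
    ∃ g : Multiplicative M, Near (a ≫ σ hT huniv g) b t := by
  let g : Multiplicative M := Multiplicative.ofAdd (d₀ D (P.map b.op η) (P.map a.op η) t).down
  have hz : d₀ D (P.map (a ≫ σ hT huniv g).op η) (P.map b.op η) t = 0 := by
    rw [← d₀_add D _ (P.map a.op η), d₀_neg D (P.map a.op η), d₀_σ]
    exact add_neg_cancel (d₀ D (P.map b.op η) (P.map a.op η) t)
  obtain ⟨V, f, v, hv, e⟩ := eq_near hT _ _ _ hz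
  rw [map_map, map_map] at e
  exact ⟨g, V, f, v, hv, hom_ext huniv e⟩

theorem unique_σ {T : X.Etale} {a : T ⟶ Y} {t : T.left} {g g' : Multiplicative M}
    (h : Near (a ≫ σ hT huniv g) (a ≫ σ hT huniv g') t) : g = g' := by
  obtain ⟨V, f, v, -, e⟩ := h
  have e1 := d₀_σ hT huniv g (f ≫ a) v
  have e2 := d₀_σ hT huniv g' (f ≫ a) v
  rw [Category.assoc] at e1 e2
  rw [e, e2] at e1
  exact (Multiplicative.toAdd.injective (ULift.up_injective e1)).symm

end action

theorem exists_cover [Finite M] (hT : IsTorsor X.smallEtaleTopology D)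
    (hP : supp P (EtCoh.top X) ∈ X.smallEtaleTopology (EtCoh.top X)) :
    ∃ (Z : FEt.Cat X) (ρ : Multiplicative M →* Aut Z) (D' : DiffMap (LC X (A M)).obj (repPre (YE Z)))
      (hP' : supp (repPre (YE Z)) (EtCoh.top X) ∈ X.smallEtaleTopology (EtCoh.top X)),
      Compat ρ D' ∧ Function.Surjective Z.hom.base ∧ cl (LC X (A M)) D' hP' = cl (LC X (A M)) D hP ∧
      ∀ (Ω : Type u) [Field Ω] [IsAlgClosed Ω] (ξ : Spec (CommRingCat.of Ω) ⟶ X), SimplyTransitive ξ ρ := by
  obtain ⟨Y, η, hfin, huniv, hsurj⟩ := exists_rep hT hP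
  let Z : FEt.Cat X := MorphismProperty.Over.mk ⊤ Y.hom ⟨hfin, Y.prop⟩
  let ρ : Multiplicative M →* Aut Z :=
    { toFun := fun g => ⟨ofE (Z := Z) (Z' := Z) (σ hT huniv g), ofE (Z := Z) (Z' := Z) (σ hT huniv g⁻¹), by
        have h : σ hT huniv g ≫ σ hT huniv g⁻¹ = 𝟙 Y := by
          rw [← σ_mul, inv_mul_cancel, σ_one]
        exact congrArg (ofE (Z := Z) (Z' := Z)) h, by
        have h : σ hT huniv g⁻¹ ≫ σ hT huniv g = 𝟙 Y := by
          rw [← σ_mul, mul_inv_cancel, σ_one]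
        exact congrArg (ofE (Z := Z) (Z' := Z)) h⟩
      map_one' := Iso.ext (congrArg (ofE (Z := Z) (Z' := Z)) (σ_one hT huniv))
      map_mul' := fun g h => Iso.ext (congrArg (ofE (Z := Z) (Z' := Z)) (σ_mul hT huniv g h)) }
  let α : ∀ U : X.Etaleᵒᵖ, (repPre (YE Z)).obj U → P.obj U := fun U p => P.map (p.down : U.unop ⟶ Y).op η
  have hα : ∀ {U V : X.Etaleᵒᵖ} (f : U ⟶ V) (p : (repPre (YE Z)).obj U),
      α V ((repPre (YE Z)).map f p) = P.map f (α U p) := by
    intro U V f p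
    exact (map_map f.unop (p.down : U.unop ⟶ Y) η).symm
  have hP' : supp (repPre (YE Z)) (EtCoh.top X) ∈ X.smallEtaleTopology (EtCoh.top X) :=
    supp_mem_of_surj hsurj
  refine ⟨Z, ρ, comapD D α hα, hP', ?_, hsurj, ?_, ?_⟩
  · intro U s g x
    exact d₀_σ hT huniv g (s : U ⟶ Y) x
  · exact cl_congr D (comapD D α hα) α hα (fun _ _ _ => rfl) hP hP'
  · intro Ω _ _ ξ s t
    let w : Fib ξ (YE (W Z Z)) := (fe ξ (W Z Z)).symm (pp s t)
    have h1 : fmap ξ (toE (p₁ Z Z)) w = (fe ξ Z).symm s := by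
      rw [fmap_toE, map_p₁]
    have h2 : fmap ξ (toE (p₂ Z Z)) w = (fe ξ Z).symm t := by
      rw [fmap_toE, map_p₂]
    obtain ⟨g, hg⟩ := near_σ hT huniv (toE (p₁ Z Z) : YE (W Z Z) ⟶ Y) (toE (p₂ Z Z) : YE (W Z Z) ⟶ Y) (pt ξ w)
    have e3 := (fmap_comp ξ (σ hT huniv g) (toE (p₁ Z Z) : YE (W Z Z) ⟶ Y) w).symm.trans (Near.eq ξ hg)
    have e4 : fmap ξ (σ hT huniv g) ((fe ξ Z).symm s) = (fe ξ Z).symm t := by
      rw [← h1, ← h2]
      exact e3
    refine ⟨g, congrArg (fe ξ Z) e4, ?_⟩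
    intro g' hg'
    have e5 : fmap ξ (σ hT huniv g') ((fe ξ Z).symm s) = (fe ξ Z).symm t :=
      (fe ξ Z).injective hg'
    have e6 := near_of ξ (a := 𝟙 Y ≫ σ hT huniv g') (b := 𝟙 Y ≫ σ hT huniv g) ((fe ξ Z).symm s) (by
      rw [Category.id_comp, Category.id_comp]
      exact e5.trans e4.symm)
    exact unique_σ hT huniv e6

end K858.TorSurj
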